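import Groth.Agent.FlatCxWatts.Localization
import Mathlib.Algebra.Category.ModuleCat.ChangeOfRings
import Mathlib.Algebra.Homology.ShortComplex.ExactFunctor
import Mathlib.Algebra.Homology.ShortComplex.ModuleCat
import Mathlib.Algebra.Module.LocalizedModule.Exact
import Mathlib.RingTheory.Localization.AtPrime.Basic

/-!
# Exactness of linear functors is local
-/

universe u

open CategoryTheory CategoryTheory.Limits

namespace Groth.Agent.FlatCxWatts

variable {A : Type u} [CommRing A]

theorem forall_mem_of_local {M : Type u} [AddCommGroup M] [Module A M] (N : Submodule A M) (x : M)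
    (h : ∀ m : Ideal A, m.IsMaximal → ∃ c : A, c ∉ m ∧ c • x ∈ N) : x ∈ N := by
  let I : Ideal A := N.comap (LinearMap.toSpanSingleton A M x)
  have hI : I = ⊤ := by
    by_contra hne
    obtain ⟨m, hm, hle⟩ := Ideal.exists_le_maximal I hne
    obtain ⟨c, hc, hcx⟩ := h m hm
    exact hc (hle hcx)
  have := (Ideal.eq_top_iff_one I).1 hI
  simpa [I] using this

variable (p : Submonoid A) (T : ModuleCat.{u} A ⥤ ModuleCat.{u} A) [T.Additive] [T.Linear A]
  (hT : ∀ (J : Type u) [SmallCategory J] [IsFiltered J], PreservesColimitsOfShape J T)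

/-- Restriction of scalars of the localized module. -/
noncomputable abbrev locObj (M : ModuleCat.{u} A) : ModuleCat.{u} (Localization p) :=
  ModuleCat.of (Localization p) (LocalizedModule p M)

/-- The identity between the two `A`-structures. -/
noncomputable def locRes (M : ModuleCat.{u} A) :
    ModuleCat.of A (LocalizedModule p M) ≅
      (ModuleCat.restrictScalars (algebraMap A (Localization p))).obj (locObj p M) :=
  let e : LocalizedModule p M ≃ₗ[A]
      ((ModuleCat.restrictScalars (algebraMap A (Localization p))).obj (locObj p M)) :=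
    { toFun := fun x => x
      invFun := fun x => x
      map_add' := fun _ _ => rfl
      map_smul' := fun a x => (algebraMap_smul (Localization p) a x).symm
      left_inv := fun _ => rfl
      right_inv := fun _ => rfl }
  { hom := ConcreteCategory.ofHom (C := ModuleCat.{u} A) e.toLinearMap
    inv := ConcreteCategory.ofHom (C := ModuleCat.{u} A) e.symm.toLinearMap
    hom_inv_id := by ext x; rfl
    inv_hom_id := by ext x; rfl }

/-- `M → res (M localized)`. -/
noncomputable def locUnit (M : ModuleCat.{u} A) :
    M ⟶ (ModuleCat.restrictScalars (algebraMap A (Localization p))).obj (locObj p M) :=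
  (ModuleCat.ofHom (LocalizedModule.mkLinearMap p M) : M ⟶ ModuleCat.of A (LocalizedModule p M)) ≫
    (locRes p M).hom

include hT in
theorem isLocalizedModule_locUnit (M : ModuleCat.{u} A) :
    IsLocalizedModule p (T.map (locUnit p M)).hom := by
  haveI := isLocalizedModule_map p M T hT
  have : (T.map (locUnit p M)).hom = (T.mapIso (locRes p M)).toLinearEquiv.toLinearMap ∘ₗ
      (T.map (ModuleCat.ofHom (LocalizedModule.mkLinearMap p M) :
        M ⟶ ModuleCat.of A (LocalizedModule p M))).hom := by
    rw [locUnit, T.map_comp]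
    rfl
  rw [this]
  exact IsLocalizedModule.of_linearEquiv p _ _

/-- Localization of a short complex. -/
noncomputable def locShort (S : ShortComplex (ModuleCat.{u} A)) : ShortComplex (ModuleCat.{u} (Localization p)) :=
  ShortComplex.mk
    (ModuleCat.ofHom (LocalizedModule.map p S.f.hom) : locObj p S.X₁ ⟶ locObj p S.X₂)
    (ModuleCat.ofHom (LocalizedModule.map p S.g.hom) : locObj p S.X₂ ⟶ locObj p S.X₃)
    (by
      ext x
      induction x using LocalizedModule.induction_on with
      | h m s =>
        show LocalizedModule.map p S.g.hom (LocalizedModule.map p S.f.hom (LocalizedModule.mk m s)) = 0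
        rw [LocalizedModule.map_mk, LocalizedModule.map_mk]
        have : S.g.hom (S.f.hom m) = 0 := S.moduleCat_zero_apply m
        rw [this, LocalizedModule.zero_mk])

theorem locShort_shortExact {S : ShortComplex (ModuleCat.{u} A)} (hS : S.ShortExact) :
    (locShort p S).ShortExact where
  exact := ((locShort p S).moduleCat_exact_iff).2 fun x hx =>
    ((LocalizedModule.map_exact p _ _ ((ShortComplex.ShortExact.moduleCat_exact_iff_function_exact S).1 hS.exact)) x).1 hx
  mono_f := (ModuleCat.mono_iff_injective _).2 (LocalizedModule.map_injective p _ hS.moduleCat_injective_f)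
  epi_g := (ModuleCat.epi_iff_surjective _).2 (LocalizedModule.map_surjective p _ hS.moduleCat_surjective_g)

theorem locUnit_natural {M N : ModuleCat.{u} A} (f : M ⟶ N) :
    f ≫ locUnit p N = locUnit p M ≫ (ModuleCat.restrictScalars (algebraMap A (Localization p))).map
      (ModuleCat.ofHom (LocalizedModule.map p f.hom) : locObj p M ⟶ locObj p N) := by
  ext (x : M)
  show LocalizedModule.mk (f.hom x) 1 = LocalizedModule.map p f.hom (LocalizedModule.mk x 1)
  exact (LocalizedModule.map_mk p f.hom x 1).symm

theorem map_locUnit_natural {M N : ModuleCat.{u} A} (f : M ⟶ N) (x : T.obj M) :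
    T.map (locUnit p N) (T.map f x) = T.map ((ModuleCat.restrictScalars (algebraMap A (Localization p))).map
      (ModuleCat.ofHom (LocalizedModule.map p f.hom) : locObj p M ⟶ locObj p N)) (T.map (locUnit p M) x) := by
  rw [← ModuleCat.comp_apply, ← ModuleCat.comp_apply, ← T.map_comp, ← T.map_comp, locUnit_natural]

variable {T}

include hT in
theorem preservesFiniteLimits_of_local
    (h : ∀ (m : Ideal A) [m.IsMaximal],
      PreservesFiniteLimits (ModuleCat.restrictScalars (algebraMap A (Localization.AtPrime m)) ⋙ T)) :
    PreservesFiniteLimits T := by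
  refine (Functor.preservesFiniteLimits_iff_forall_exact_map_and_mono T).2 fun S hS => ⟨?_, ?_⟩
  · refine (ShortComplex.moduleCat_exact_iff _).2 fun x hx =>
      forall_mem_of_local (LinearMap.range (T.map S.f).hom) x fun m hm => ?_
    haveI := h m
    obtain ⟨he, -⟩ := (Functor.preservesFiniteLimits_iff_forall_exact_map_and_mono _).1 (h m) _
      (locShort_shortExact m.primeCompl hS)
    obtain ⟨z, hz⟩ := (ShortComplex.moduleCat_exact_iff _).1 he (T.map (locUnit m.primeCompl S.X₂) x)
      ((map_locUnit_natural m.primeCompl T S.g x).symm.trans ((congrArg _ hx).trans (map_zero _)))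
    haveI := isLocalizedModule_locUnit m.primeCompl T hT S.X₁
    haveI := isLocalizedModule_locUnit m.primeCompl T hT S.X₂
    obtain ⟨⟨w, s⟩, hw⟩ := IsLocalizedModule.surj m.primeCompl (T.map (locUnit m.primeCompl S.X₁)).hom z
    have heq : (T.map (locUnit m.primeCompl S.X₂)).hom ((s : A) • x) =
        (T.map (locUnit m.primeCompl S.X₂)).hom (T.map S.f w) := by
      refine (map_smul _ _ _).trans ?_
      refine Eq.trans ?_ (map_locUnit_natural m.primeCompl T S.f w).symm
      refine Eq.trans (congrArg ((s : A) • ·) hz.symm) ?_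
      refine Eq.trans ?_ (congrArg _ hw)
      exact (map_smul _ _ _).symm
    obtain ⟨c, hc⟩ := IsLocalizedModule.exists_of_eq (S := m.primeCompl) heq
    refine ⟨(c : A) * s, (c * s : m.primeCompl).2, ⟨(c : A) • w, ?_⟩⟩
    rw [map_smul, mul_smul]
    exact hc.symm
  · refine (ModuleCat.mono_iff_injective _).2 ((injective_iff_map_eq_zero _).2 fun x hx =>
      (Submodule.mem_bot A).1 (forall_mem_of_local ⊥ x fun m hm => ?_))
    obtain ⟨-, hmono⟩ := (Functor.preservesFiniteLimits_iff_forall_exact_map_and_mono _).1 (h m) _
      (locShort_shortExact m.primeCompl hS)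
    haveI := isLocalizedModule_locUnit m.primeCompl T hT S.X₁
    have h0 : (T.map (locUnit m.primeCompl S.X₁)).hom x = (T.map (locUnit m.primeCompl S.X₁)).hom 0 := by
      rw [map_zero]
      refine (ModuleCat.mono_iff_injective _).1 hmono ?_
      refine (map_locUnit_natural m.primeCompl T S.f x).symm.trans ?_
      exact ((congrArg _ hx).trans (map_zero _)).trans (map_zero _).symm
    obtain ⟨c, hc⟩ := IsLocalizedModule.exists_of_eq (S := m.primeCompl) h0
    exact ⟨c, c.2, (Submodule.mem_bot A).2 (hc.trans (smul_zero c))⟩

include hT in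
theorem preservesFiniteColimits_of_local
    (h : ∀ (m : Ideal A) [m.IsMaximal],
      PreservesFiniteColimits (ModuleCat.restrictScalars (algebraMap A (Localization.AtPrime m)) ⋙ T)) :
    PreservesFiniteColimits T := by
  refine (Functor.preservesFiniteColimits_iff_forall_exact_map_and_epi T).2 fun S hS => ⟨?_, ?_⟩
  · refine (ShortComplex.moduleCat_exact_iff _).2 fun x hx =>
      forall_mem_of_local (LinearMap.range (T.map S.f).hom) x fun m hm => ?_
    obtain ⟨he, -⟩ := (Functor.preservesFiniteColimits_iff_forall_exact_map_and_epi _).1 (h m) _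
      (locShort_shortExact m.primeCompl hS)
    obtain ⟨z, hz⟩ := (ShortComplex.moduleCat_exact_iff _).1 he (T.map (locUnit m.primeCompl S.X₂) x)
      ((map_locUnit_natural m.primeCompl T S.g x).symm.trans ((congrArg _ hx).trans (map_zero _)))
    haveI := isLocalizedModule_locUnit m.primeCompl T hT S.X₁
    haveI := isLocalizedModule_locUnit m.primeCompl T hT S.X₂
    obtain ⟨⟨w, s⟩, hw⟩ := IsLocalizedModule.surj m.primeCompl (T.map (locUnit m.primeCompl S.X₁)).hom z
    have heq : (T.map (locUnit m.primeCompl S.X₂)).hom ((s : A) • x) =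
        (T.map (locUnit m.primeCompl S.X₂)).hom (T.map S.f w) := by
      refine (map_smul _ _ _).trans ?_
      refine Eq.trans ?_ (map_locUnit_natural m.primeCompl T S.f w).symm
      refine Eq.trans (congrArg ((s : A) • ·) hz.symm) ?_
      refine Eq.trans ?_ (congrArg _ hw)
      exact (map_smul _ _ _).symm
    obtain ⟨c, hc⟩ := IsLocalizedModule.exists_of_eq (S := m.primeCompl) heq
    refine ⟨(c : A) * s, (c * s : m.primeCompl).2, ⟨(c : A) • w, ?_⟩⟩
    rw [map_smul, mul_smul]
    exact hc.symm
  · refine (ModuleCat.epi_iff_surjective _).2 fun y =>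
      LinearMap.mem_range.1 (forall_mem_of_local (LinearMap.range (T.map S.g).hom) y fun m hm => ?_)
    obtain ⟨-, hepi⟩ := (Functor.preservesFiniteColimits_iff_forall_exact_map_and_epi _).1 (h m) _
      (locShort_shortExact m.primeCompl hS)
    obtain ⟨z, hz⟩ := (ModuleCat.epi_iff_surjective _).1 hepi (T.map (locUnit m.primeCompl S.X₃) y)
    haveI := isLocalizedModule_locUnit m.primeCompl T hT S.X₂
    haveI := isLocalizedModule_locUnit m.primeCompl T hT S.X₃
    obtain ⟨⟨w, s⟩, hw⟩ := IsLocalizedModule.surj m.primeCompl (T.map (locUnit m.primeCompl S.X₂)).hom z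
    have heq : (T.map (locUnit m.primeCompl S.X₃)).hom ((s : A) • y) =
        (T.map (locUnit m.primeCompl S.X₃)).hom (T.map S.g w) := by
      refine (map_smul _ _ _).trans ?_
      refine Eq.trans ?_ (map_locUnit_natural m.primeCompl T S.g w).symm
      refine Eq.trans (congrArg ((s : A) • ·) hz.symm) ?_
      refine Eq.trans ?_ (congrArg _ hw)
      exact (map_smul _ _ _).symm
    obtain ⟨c, hc⟩ := IsLocalizedModule.exists_of_eq (S := m.primeCompl) heq
    refine ⟨(c : A) * s, (c * s : m.primeCompl).2, ⟨(c : A) • w, ?_⟩⟩
    rw [map_smul, mul_smul]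
    exact hc.symm

end Groth.Agent.FlatCxWatts
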