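import Mathlib.Algebra.Category.ModuleCat.FilteredColimits
import Mathlib.Algebra.Category.ModuleCat.Abelian
import Mathlib.Algebra.Module.LocalizedModule.Basic
import Mathlib.CategoryTheory.Limits.ConcreteCategory.Basic
import Mathlib.CategoryTheory.Limits.Types.Filtered
import Mathlib.CategoryTheory.Linear.LinearFunctor

/-!
# Linear functors preserving filtered colimits commute with localization
-/

universe u

open CategoryTheory CategoryTheory.Limits

namespace Groth.Agent.FlatCxWatts

variable {A : Type u} [CommRing A] (S : Submonoid A)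

/-- Multiples in `S`, as a category. -/
def Den : Type u := S

variable {S} in
/-- The underlying element. -/
def Den.val (s : Den S) : S := s

instance : Category.{u} (Den S) where
  Hom s t := {w : S // w * s.val = t.val}
  id s := ⟨1, one_mul _⟩
  comp {a b c} f g := ⟨g.1 * f.1, by rw [mul_assoc, f.2, g.2]⟩
  id_comp f := Subtype.ext (mul_one _)
  comp_id f := Subtype.ext (one_mul _)
  assoc f g h := Subtype.ext (mul_assoc _ _ _).symm

instance : IsFiltered (Den S) where
  nonempty := ⟨(1 : S)⟩
  cocone_objs s t := ⟨(t.val * s.val : S), ⟨t.val, rfl⟩, ⟨s.val, mul_comm _ _⟩, trivial⟩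
  cocone_maps {s t} f g := ⟨(s.val * t.val : S), ⟨s.val, rfl⟩, by
    apply Subtype.ext
    show s.val * f.1 = s.val * g.1
    rw [mul_comm _ f.1, mul_comm _ g.1, f.2, g.2]⟩

variable (M : ModuleCat.{u} A)

/-- The diagram of multiplications. -/
noncomputable def denDiag : Den S ⥤ ModuleCat.{u} A where
  obj _ := M
  map f := (f.1 : A) • 𝟙 M
  map_id _ := by ext x; show ((1 : S) : A) • x = x; simp
  map_comp f g := by
    ext x
    show ((g.1 * f.1 : S) : A) • x = (g.1 : A) • ((f.1 : A) • x)
    rw [smul_smul]; rfl

/-- `m ↦ m / s`. -/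
noncomputable def denι (s : S) : M ⟶ ModuleCat.of A (LocalizedModule S M) :=
  ModuleCat.ofHom
    { toFun := fun m => LocalizedModule.mk m s
      map_add' := fun x y => by
        rw [LocalizedModule.mk_add_mk, LocalizedModule.mk_eq]
        exact ⟨1, by simp [smul_add, smul_smul, Submonoid.smul_def]⟩
      map_smul' := fun a x => by rw [RingHom.id_apply, LocalizedModule.smul'_mk] }

/-- The localization as a cocone. -/
noncomputable def denCocone : Cocone (denDiag S M) where
  pt := ModuleCat.of A (LocalizedModule S M)
  ι :=
    { app := fun s => denι S M s.val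
      naturality := fun s t f => by
        ext (x : M)
        show LocalizedModule.mk ((f.1 : A) • x) t.val = LocalizedModule.mk x s.val
        rw [LocalizedModule.mk_eq]
        refine ⟨1, ?_⟩
        have := congrArg (fun z : S => (z : A)) f.2
        simp only [Submonoid.coe_mul] at this
        simp [Submonoid.smul_def, smul_smul, ← this, mul_comm] }

/-- The localization is a filtered colimit. -/
noncomputable def denIsColimit : IsColimit (denCocone S M) :=
  isColimitOfReflects (forget (ModuleCat.{u} A)) <|
    Types.FilteredColimit.isColimitOf' _ _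
      (fun x => by
        induction x using LocalizedModule.induction_on with
        | h m s => exact ⟨s, m, rfl⟩)
      (fun i x y h => by
        obtain ⟨c, hc⟩ := LocalizedModule.mk_eq.1 (show LocalizedModule.mk x i.val =
          LocalizedModule.mk y i.val from h)
        refine ⟨(c * i.val * i.val : S), ⟨c * i.val, rfl⟩, ?_⟩
        show ((c * i.val : S) : A) • (x : M) = ((c * i.val : S) : A) • (y : M)
        simpa [Submonoid.smul_def, smul_smul] using hc)

theorem isLocalizedModule_map (T : ModuleCat.{u} A ⥤ ModuleCat.{u} A) [T.Additive] [T.Linear A]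
    (hT : ∀ (J : Type u) [SmallCategory J] [IsFiltered J], PreservesColimitsOfShape J T) :
    IsLocalizedModule S (T.map (ModuleCat.ofHom (LocalizedModule.mkLinearMap S M) :
      M ⟶ ModuleCat.of A (LocalizedModule S M))).hom := by
  haveI := hT (Den S)
  have hc := isColimitOfPreserves T (denIsColimit S M)
  let ι : ∀ s : S, M ⟶ ModuleCat.of A (LocalizedModule S M) := denι S M
  have hι : ∀ (s : S) (y : T.obj M), (s : A) • (T.map (ι s) y) = T.map (ι 1) y := fun s y => by
    have h : (s : A) • ι s = ι 1 := by
      ext (x : M)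
      show (s : A) • (LocalizedModule.mk x s : LocalizedModule S M) = LocalizedModule.mk x 1
      rw [LocalizedModule.smul'_mk, LocalizedModule.mk_eq]
      exact ⟨1, by simp [Submonoid.smul_def, smul_smul]⟩
    rw [← h, T.map_smul]
    rfl
  have h1 : T.map (ModuleCat.ofHom (LocalizedModule.mkLinearMap S M) :
      M ⟶ ModuleCat.of A (LocalizedModule S M)) = T.map (ι 1) := congrArg T.map (by ext; rfl)
  rw [h1]
  refine ⟨fun s => ?_, fun y => ?_, fun {x₁ x₂} h => ?_⟩
  · let e : ModuleCat.of A (LocalizedModule S M) ⟶ ModuleCat.of A (LocalizedModule S M) :=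
      (s : A) • 𝟙 _
    have hbij : Function.Bijective ((algebraMap A (Module.End A (LocalizedModule S M))) s) :=
      (Module.End.isUnit_iff _).1 (IsLocalizedModule.map_units (LocalizedModule.mkLinearMap S M) s)
    have : IsIso e := (ConcreteCategory.isIso_iff_bijective e).2 hbij
    have hTe : Function.Bijective (T.map e) :=
      (ConcreteCategory.isIso_iff_bijective (T.map e)).1 inferInstance
    refine (Module.End.isUnit_iff _).2 ?_
    convert hTe using 1
    funext z
    show (s : A) • z = T.map ((s : A) • 𝟙 _) z
    rw [T.map_smul, T.map_id]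
    rfl
  · obtain ⟨s, z, hz⟩ := Concrete.isColimit_exists_rep _ hc y
    refine ⟨⟨z, s.val⟩, ?_⟩
    rw [← hz]
    exact hι s.val z
  · let o : Den S := (1 : S)
    obtain ⟨k, f, g, hfg⟩ := Concrete.isColimit_exists_of_rep_eq.{u} _ hc (i := o) (j := o) x₁ x₂ h
    have e : f.1 = g.1 := ((mul_one f.1).symm.trans (f.2.trans g.2.symm)).trans (mul_one g.1)
    refine ⟨f.1, ?_⟩
    change T.map ((f.1 : A) • 𝟙 M) x₁ = T.map ((g.1 : A) • 𝟙 M) x₂ at hfg
    rw [T.map_smul, T.map_smul, T.map_id, ← e] at hfg
    exact hfg

end Groth.Agent.FlatCxWatts
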